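import Groth.Agent.Lib.CocharConst2.Points
import Groth.Agent.Lib.MultDef14.Transporter
import Groth.Agent.Lib.DiagGrp.CharHom
import Groth.Agent.Lib.AlgSp.FieldBase

/-!
# Families of one-parameter subgroups are locally constant
-/

set_option autoImplicit false
set_option linter.all false
set_option backward.isDefEq.respectTransparency false
set_option synthInstance.maxHeartbeats 400000
set_option maxHeartbeats 1000000

universe u

open CategoryTheory MonoidalCategory CartesianMonoidalCategory MonObj GrpObj AlgebraicGeometry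

noncomputable section

namespace GrothLib.CocharConst2

open GrothLib.MultDef14 (ConjOn)

variable {k : Type u} [Field k] {S : Scheme.{u}} (f : S ⟶ Spec (CommRingCat.of k))
  {Q : ∀ (M : Type), AddCommGroup M → Prop} {H G : Over (Spec (CommRingCat.of k))} [GrpObj H] [GrpObj G]

/-- A family of homomorphisms which is conjugate to a constant one at one point of a connected base is
conjugate to it locally for the étale topology. -/
theorem etaleLocally_conj (hH : DiagGrp.HasChartsFpqc Q H) (hG : Smooth G.hom) (hGa : IsAffineHom G.hom) [ConnectedSpace ↥S]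
    (lam : H ⟶ G) [IsMonHom lam] (φ : Red.bc f H ⟶ Red.bc f G) [IsMonHom φ]
    (P : Over S) (hP : Nonempty ↥P.left) (g₀ : P ⟶ Red.bc f G) (h₀ : ConjOn ((Over.pullback f).map lam) φ g₀) :
    ∃ (S' : Over S), Etale S'.hom ∧ Surjective S'.hom ∧
      ∃ g : S' ⟶ Red.bc f G, ConjOn ((Over.pullback f).map lam) φ g := by
  obtain ⟨T, j, -, hT, hspec⟩ := MultDef14.exists_transporter (hH.baseChange f)
    (MorphismProperty.pullback_snd G.hom f hG) (MorphismProperty.pullback_snd G.hom f hGa) ((Over.pullback f).map lam) φ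
  haveI := hT
  -- the locus of conjugacy
  have hne : (Set.range T.hom).Nonempty := by
    obtain ⟨t, -⟩ := (hspec P g₀).2 h₀
    exact ⟨_, t.left hP.some, rfl⟩
  have hopen : IsOpen (Set.range T.hom) := by
    rw [← Set.image_univ]; exact T.hom.isOpenMap _ isOpen_univ
  have hclosed : IsClosed (Set.range T.hom) := by
    rw [← closure_subset_iff_isClosed]
    intro x hx
    let L := CommRingCat.of (S.residueField x)
    let i : Spec L ⟶ S := S.fromSpecResidueField x
    let Z := Limits.pullback f (i ≫ f)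
    let pr : Z ⟶ S := Limits.pullback.fst f (i ≫ f)
    let ρ : Z ⟶ Spec L := Limits.pullback.snd f (i ≫ f)
    let r : Z ⟶ S := ρ ≫ i
    let c : Z ⟶ Spec (CommRingCat.of k) := pr ≫ f
    have hpr : pr ≫ f = c := rfl
    have hr : r ≫ f = c := by rw [Category.assoc]; exact Limits.pullback.condition.symm
    haveI : UniversallyOpen (i ≫ f) := GrothLib.AlgSp.universallyOpen_to_field _
    haveI : UniversallyOpen pr := MorphismProperty.pullback_fst f (i ≫ f) inferInstance
    obtain ⟨T₂, j₂, -, hT₂, hspec₂⟩ := MultDef14.exists_transporter (hH.baseChange c)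
      (MorphismProperty.pullback_snd G.hom c hG) (MorphismProperty.pullback_snd G.hom c hGa)
      (push pr hpr φ) (push r hr φ)
    haveI := hT₂
    -- the diagonal point
    let δ : Spec L ⟶ Z := Limits.pullback.lift i (𝟙 _) (Category.id_comp _).symm
    have hδ : δ ≫ pr = δ ≫ r := by
      rw [Limits.pullback.lift_fst, ← Category.assoc, Limits.pullback.lift_snd, Category.id_comp]
    have hdiag : ConjOn (push pr hpr φ) (push r hr φ) (1 : Over.mk δ ⟶ Red.bc c G) := by
      intro Y p h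
      have e : Y.hom ≫ pr = Y.hom ≫ r := by
        rw [← Over.w p]; simp [hδ]
      rw [MonObj.comp_one, _root_.one_mul, inv_one, _root_.mul_one, comp_push, comp_push]
      obtain ⟨h', rfl⟩ := (E f r hr H Y).surjective h
      rw [Equiv.symm_apply_apply, ← E_transIso hpr hr G e, ← Category.assoc]
      congr 2
      refine (E f pr hpr H Y).injective ?_
      rw [E_transIso hpr hr H e, Equiv.apply_symm_apply]
    have hR : IsOpen (Set.range T₂.hom) := by
      rw [← Set.image_univ]; exact T₂.hom.isOpenMap _ isOpen_univ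
    let x₀ : Spec L := IsLocalRing.closedPoint (S.residueField x)
    have hx₀ : δ x₀ ∈ Set.range T₂.hom := by
      obtain ⟨t, -⟩ := (hspec₂ _ _).2 hdiag
      exact ⟨t.left x₀, by rw [← Scheme.Hom.comp_apply, Over.w t]; rfl⟩
    have hxi : i x₀ = x := S.fromSpecResidueField_apply x _
    have hW : pr (δ x₀) = x := by
      rw [← Scheme.Hom.comp_apply, Limits.pullback.lift_fst, hxi]
    obtain ⟨u₀, ⟨z, hz, hzu⟩, hu⟩ := mem_closure_iff.1 hx _ (pr.isOpenMap _ hR) ⟨δ x₀, hx₀, hW⟩
    obtain ⟨t₂, ht₂⟩ := hz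
    obtain ⟨t₁, ht₁⟩ := hu
    obtain ⟨π, hπ1, hπ2⟩ := Scheme.Pullback.exists_preimage_pullback (f := T₂.hom ≫ pr) (g := T.hom) t₂ t₁
      (by rw [Scheme.Hom.comp_apply, ht₂, hzu, ht₁])
    let PP := Limits.pullback (T₂.hom ≫ pr) T.hom
    let ω : Spec (CommRingCat.of (PP.residueField π)) ⟶ Z := PP.fromSpecResidueField π ≫ Limits.pullback.fst _ _ ≫ T₂.hom
    let m : Over Z := Over.mk ω
    let a₂ : m ⟶ T₂ := Over.homMk (PP.fromSpecResidueField π ≫ Limits.pullback.fst _ _) (by simp [m, ω])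
    let a₁ : (Over.map pr).obj m ⟶ T := Over.homMk (PP.fromSpecResidueField π ≫ Limits.pullback.snd _ _) (by
      show (PP.fromSpecResidueField π ≫ Limits.pullback.snd _ _) ≫ T.hom = ω ≫ pr
      simp only [ω, Category.assoc]
      rw [← Limits.pullback.condition])
    have c₁ := (hspec _ (a₁ ≫ j)).1 ⟨a₁, rfl⟩
    have c₂ := (hspec₂ _ (a₂ ≫ j₂)).1 ⟨a₂, rfl⟩
    let G₀ : m ⟶ Red.bc c G := (a₂ ≫ j₂) * E f pr hpr G m (a₁ ≫ j)
    let g : (Over.map r).obj m ⟶ Red.bc f G := (E f r hr G m).symm G₀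
    have hg : ConjOn ((Over.pullback f).map lam) φ g := by
      intro Y p h
      let Y' : Over Z := Over.mk (p.left ≫ ω)
      have hY : p.left ≫ ω ≫ r = Y.hom := Over.w p
      let eY : (Over.map r).obj Y' ≅ Y := Over.isoMk (Iso.refl _) (by
        show 𝟙 _ ≫ Y.hom = (p.left ≫ ω) ≫ r
        rw [Category.id_comp, Category.assoc, hY])
      let p' : Y' ⟶ m := Over.homMk p.left rfl
      have hp : eY.hom ≫ p = (Over.map r).map p' := Over.OverMorphism.ext (Category.id_comp _)
      rw [← cancel_epi eY.hom, MonObj.comp_mul, MonObj.comp_mul, GrpObj.comp_inv, ← Category.assoc eY.hom p g, hp]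
      refine (EG f r hr G Y').injective ?_
      rw [map_mul, map_mul, map_inv]
      show E f r hr G Y' (eY.hom ≫ h ≫ φ) =
        E f r hr G Y' ((Over.map r).map p' ≫ g) * E f r hr G Y' (eY.hom ≫ h ≫ (Over.pullback f).map lam) *
          (E f r hr G Y' ((Over.map r).map p' ≫ g))⁻¹
      rw [← Category.assoc eY.hom h, ← Category.assoc eY.hom h, E_comp, Equiv.apply_symm_apply, E_comp_pullback]
      set hc := E f r hr H Y' (eY.hom ≫ h) with hhc
      have e1 : E f r hr G Y' ((eY.hom ≫ h) ≫ φ) = hc ≫ push r hr φ := by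
        rw [comp_push, hhc, Equiv.symm_apply_apply]
      rw [e1, c₂ Y' p' hc, comp_push, c₁ _ ((Over.map pr).map p') ((E f pr hpr H Y').symm hc)]
      show (p' ≫ a₂ ≫ j₂) * EG f pr hpr G Y' ((((Over.map pr).map p') ≫ a₁ ≫ j) *
        ((E f pr hpr H Y').symm hc ≫ (Over.pullback f).map lam) * (((Over.map pr).map p') ≫ a₁ ≫ j)⁻¹) * (p' ≫ a₂ ≫ j₂)⁻¹ = _
      rw [map_mul, map_mul, map_inv]
      show (p' ≫ a₂ ≫ j₂) * (E f pr hpr G Y' (((Over.map pr).map p') ≫ a₁ ≫ j) *
        E f pr hpr G Y' ((E f pr hpr H Y').symm hc ≫ (Over.pullback f).map lam) *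
          (E f pr hpr G Y' (((Over.map pr).map p') ≫ a₁ ≫ j))⁻¹) * (p' ≫ a₂ ≫ j₂)⁻¹ = _
      rw [E_comp, E_comp_pullback, Equiv.apply_symm_apply, MonObj.comp_mul]
      simp only [_root_.mul_assoc, _root_.mul_inv_rev]
    obtain ⟨t, -⟩ := (hspec _ g).2 hg
    refine ⟨t.left (IsLocalRing.closedPoint (PP.residueField π)), ?_⟩
    rw [← Scheme.Hom.comp_apply, Over.w t]
    show i (ρ (ω _)) = x
    rw [Subsingleton.elim (α := PrimeSpectrum (S.residueField x)) (ρ (ω _)) x₀, hxi]
  haveI : Surjective T.hom := ⟨fun s => by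
    have h : Set.range T.hom = Set.univ := IsClopen.eq_univ ⟨hclosed, hopen⟩ hne
    exact h.ge (Set.mem_univ s)⟩
  obtain ⟨U, p, hp⟩ := Torsor21.exists_etale_sections T.hom
  rw [Scheme.etalePrecoverage, Scheme.ofArrows_mem_precoverage_iff] at hp
  let q : ∐ U ⟶ T.left := Limits.Sigma.desc p
  let S' : Over S := Over.mk (q ≫ T.hom)
  refine ⟨S', ?_, ⟨fun s => ?_⟩, _, (hspec S' (Over.homMk q rfl ≫ j)).1 ⟨_, rfl⟩⟩
  · show Etale (q ≫ T.hom)
    rw [IsZariskiLocalAtSource.iff_of_openCover (P := @Etale) (sigmaOpenCover U)]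
    intro s
    show Etale (Limits.Sigma.ι U s ≫ q ≫ T.hom)
    rw [← Category.assoc, Limits.Sigma.ι_desc]
    exact hp.2 s
  · obtain ⟨i, z, hz⟩ := hp.1 s
    refine ⟨Limits.Sigma.ι U i z, ?_⟩
    show (q ≫ T.hom) _ = _
    rw [← Scheme.Hom.comp_apply, ← Category.assoc, Limits.Sigma.ι_desc]
    exact hz

end GrothLib.CocharConst2
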