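import Groth.Agent.Lib.MultDef14.EtaleLocal
import Groth.Agent.Lib.DiagGrp.BaseChange

/-!
# Points of twice base changed groups
-/

set_option autoImplicit false
set_option linter.all false
set_option backward.isDefEq.respectTransparency false
set_option synthInstance.maxHeartbeats 400000
set_option maxHeartbeats 1000000

universe u

open CategoryTheory MonoidalCategory CartesianMonoidalCategory MonObj GrpObj AlgebraicGeometry

noncomputable section

namespace GrothLib.CocharConst2

open GrothLib.DiagGrp (bcPoint bcPointMulEquiv)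

variable {B S Z : Scheme.{u}} (f : S ⟶ B) {c : Z ⟶ B} (a : Z ⟶ S) (hac : a ≫ f = c)

/-- The two ways of seeing a scheme over `Z` over the base. -/
def J (Y : Over Z) : (Over.map f).obj ((Over.map a).obj Y) ≅ (Over.map c).obj Y :=
  Over.isoMk (Iso.refl _) (by
    show 𝟙 _ ≫ Y.hom ≫ c = (Y.hom ≫ a) ≫ f
    rw [Category.id_comp, Category.assoc, hac])

/-- Points of the base change along a composite. -/
def E (X : Over B) (Y : Over Z) : ((Over.map a).obj Y ⟶ Red.bc f X) ≃ (Y ⟶ Red.bc c X) :=
  ((bcPoint f X ((Over.map a).obj Y)).symm.trans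
    { toFun := fun g => (J f a hac Y).inv ≫ g
      invFun := fun g => (J f a hac Y).hom ≫ g
      left_inv := fun g => by simp
      right_inv := fun g => by simp }).trans (bcPoint c X Y)

theorem E_fst (X : Over B) {Y : Over Z} (x : (Over.map a).obj Y ⟶ Red.bc f X) :
    (E f a hac X Y x).left ≫ Limits.pullback.fst X.hom c = x.left ≫ Limits.pullback.fst X.hom f := by
  simp [E, J, bcPoint, Adjunction.homEquiv_unit, Adjunction.homEquiv_counit, Over.mapPullbackAdj]

theorem ext_pt {X : Over B} {Y : Over Z} {p q : Y ⟶ Red.bc c X}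
    (h : p.left ≫ Limits.pullback.fst X.hom c = q.left ≫ Limits.pullback.fst X.hom c) : p = q :=
  Over.OverMorphism.ext (Limits.pullback.hom_ext h ((Over.w p).trans (Over.w q).symm))

theorem E_comp (X : Over B) {Y Y' : Over Z} (p : Y' ⟶ Y) (x : (Over.map a).obj Y ⟶ Red.bc f X) :
    E f a hac X Y' ((Over.map a).map p ≫ x) = p ≫ E f a hac X Y x :=
  ext_pt (by rw [E_fst, Over.comp_left, Over.comp_left, Category.assoc, Category.assoc, E_fst]; rfl)

theorem E_comp_pullback {X X' : Over B} {Y : Over Z} (x : (Over.map a).obj Y ⟶ Red.bc f X) (u : X ⟶ X') :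
    E f a hac X' Y (x ≫ (Over.pullback f).map u) = E f a hac X Y x ≫ (Over.pullback c).map u :=
  ext_pt (by
    rw [E_fst, Over.comp_left, Over.comp_left, Category.assoc, Category.assoc]
    simp only [Over.pullback]
    simp [← Category.assoc, E_fst])

theorem E_mul (G : Over B) [GrpObj G] {Y : Over Z} (x y : (Over.map a).obj Y ⟶ Red.bc f G) :
    E f a hac G Y (x * y) = E f a hac G Y x * E f a hac G Y y := by
  show bcPointMulEquiv c G Y ((J f a hac Y).inv ≫ (bcPointMulEquiv f G _).symm (x * y)) =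
    bcPointMulEquiv c G Y ((J f a hac Y).inv ≫ (bcPointMulEquiv f G _).symm x) *
      bcPointMulEquiv c G Y ((J f a hac Y).inv ≫ (bcPointMulEquiv f G _).symm y)
  rw [map_mul, MonObj.comp_mul, map_mul]

/-- `E` as a group isomorphism. -/
def EG (G : Over B) [GrpObj G] (Y : Over Z) : ((Over.map a).obj Y ⟶ Red.bc f G) ≃* (Y ⟶ Red.bc c G) :=
  { E f a hac G Y with map_mul' := E_mul f a hac G }

variable {f}

/-- The pullback of a homomorphism between base changed groups. -/
def push {H G : Over B} (φ : Red.bc f H ⟶ Red.bc f G) : Red.bc c H ⟶ Red.bc c G :=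
  E f a hac G _ ((E f a hac H _).symm (𝟙 _) ≫ φ)

theorem comp_push {H G : Over B} (φ : Red.bc f H ⟶ Red.bc f G) {Y : Over Z} (h : Y ⟶ Red.bc c H) :
    h ≫ push a hac φ = E f a hac G Y ((E f a hac H Y).symm h ≫ φ) := by
  rw [push, ← E_comp, ← Category.assoc]
  congr 2
  refine (E f a hac H Y).injective ?_
  rw [Equiv.apply_symm_apply, E_comp, Equiv.apply_symm_apply, Category.comp_id]

instance isMonHom_push {H G : Over B} [GrpObj H] [GrpObj G] (φ : Red.bc f H ⟶ Red.bc f G) [IsMonHom φ] :
    IsMonHom (push a hac φ) := by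
  have hmul : ∀ {Y : Over Z} (x y : Y ⟶ Red.bc c H),
      (x * y) ≫ push a hac φ = (x ≫ push a hac φ) * (y ≫ push a hac φ) := fun {Y} x y => by
    rw [comp_push, comp_push, comp_push, show (E f a hac H Y).symm (x * y) = (E f a hac H Y).symm x * (E f a hac H Y).symm y
      from map_mul (EG f a hac H Y).symm x y, MonObj.mul_comp, E_mul]
  have h1 : μ[Red.bc c H] = fst _ _ * snd _ _ := by
    rw [Hom.mul_def, lift_fst_snd, Category.id_comp]
  refine { one_hom := ?_, mul_hom := ?_ }
  · have h' : (1 : 𝟙_ (Over Z) ⟶ Red.bc c H) ≫ push a hac φ = 1 := map_one (MonoidHom.mk' (fun x => x ≫ push a hac φ) hmul)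
    simpa [Hom.one_def] using h'
  · rw [h1, hmul, Hom.mul_def]
    congr 1
    all_goals refine CartesianMonoidalCategory.hom_ext _ _ ?_ ?_ <;> simp

/-- The translation between two ways of seeing a scheme over the base. -/
def transIso {a b : Z ⟶ S} (Y : Over Z) (e : Y.hom ≫ a = Y.hom ≫ b) : (Over.map a).obj Y ≅ (Over.map b).obj Y :=
  Over.isoMk (Iso.refl _) ((Category.id_comp _).trans e.symm)

theorem E_transIso {a b : Z ⟶ S} (hac : a ≫ f = c) (hbc : b ≫ f = c) (X : Over B) {Y : Over Z}
    (e : Y.hom ≫ a = Y.hom ≫ b) (x : (Over.map b).obj Y ⟶ Red.bc f X) :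
    E f a hac X Y ((transIso Y e).hom ≫ x) = E f b hbc X Y x :=
  ext_pt (by rw [E_fst, E_fst, Over.comp_left, Category.assoc]; exact Category.id_comp _)

end GrothLib.CocharConst2
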